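import Mathlib
import Cfsg.Agent.Lib.AutPSL.Out

/-!
The four-group of `PSL(2,q)`, `q` odd, that comes from the quaternions, and the automorphisms fixing
it when the Sylow `2`-subgroups are abelian.
-/

set_option autoImplicit false
set_option linter.unusedSectionVars false
set_option linter.style.haveILetI false

namespace Cfsg.Agent.JankoReeType.KleinFour

open Matrix Cfsg.Agent.AutPSL.Basic Cfsg.Agent.AutPSL.Out

variable {F : Type*} [Field F]

/-- The first quaternion unit. -/
def qI : Matrix (Fin 2) (Fin 2) F := !![0, 1; -1, 0]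

/-- The second quaternion unit. -/
def qJ (a b : F) : Matrix (Fin 2) (Fin 2) F := !![a, b; b, -a]

theorem qI_det : (qI : Matrix (Fin 2) (Fin 2) F).det = 1 := by simp [qI, det_fin_two]

theorem qJ_det {a b : F} (h : a ^ 2 + b ^ 2 = -1) : (qJ a b).det = 1 := by
  simp only [qJ, det_fin_two_of]; linear_combination -h

theorem qI_sq : qI * qI = -(1 : Matrix (Fin 2) (Fin 2) F) := by
  ext i j; fin_cases i <;> fin_cases j <;> simp [qI, Matrix.mul_apply, Fin.sum_univ_two]

theorem qJ_sq {a b : F} (h : a ^ 2 + b ^ 2 = -1) : qJ a b * qJ a b = -1 := by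
  ext i j; fin_cases i <;> fin_cases j <;> simp [qJ, Matrix.mul_apply, Fin.sum_univ_two] <;>
    first
      | linear_combination h
      | linear_combination -h
      | ring1

theorem qJ_qI (a b : F) : qJ a b * qI = -(qI * qJ a b) := by
  ext i j; fin_cases i <;> fin_cases j <;> simp [qI, qJ, Matrix.mul_apply, Fin.sum_univ_two]

/-- Commuting with both units forces a scalar. -/
theorem scalar_of_commute {a b : F} (h : a ^ 2 + b ^ 2 = -1) (h2 : (2 : F) ≠ 0)
    {N : Matrix (Fin 2) (Fin 2) F} (hI : N * qI = qI * N) (hJ : N * qJ a b = qJ a b * N) :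
    N = N 0 0 • 1 := by
  have e1 := congrFun (congrFun hI 0) 0
  have e2 := congrFun (congrFun hI 0) 1
  have f1 := congrFun (congrFun hJ 0) 0
  have f2 := congrFun (congrFun hJ 0) 1
  simp [qI, qJ, Matrix.mul_apply, Fin.sum_univ_two] at e1 e2 f1 f2
  have g1 : (2 * N 0 1) * b = 0 := by linear_combination f1 - b * e1
  have g2 : (2 * N 0 1) * a = 0 := by linear_combination -f2 + b * e2
  have hy : 2 * N 0 1 = 0 := by
    linear_combination -a * g2 - b * g1 + (2 * N 0 1) * h
  have hy0 : N 0 1 = 0 := (mul_eq_zero.1 hy).resolve_left h2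
  have hz : N 1 0 = 0 := by linear_combination -e1 - hy0
  ext i j
  fin_cases i <;> fin_cases j <;> simp [hy0, hz]
  linear_combination -e2

/-- Normalizing both units projectively forces one of the units. -/
theorem projective_centralizer {a b : F} (h : a ^ 2 + b ^ 2 = -1) (h2 : (2 : F) ≠ 0)
    {N : Matrix (Fin 2) (Fin 2) F} (hN : N.det ≠ 0)
    {c e : F} (hI : N * qI = c • (qI * N)) (hJ : N * qJ a b = e • (qJ a b * N)) :
    ∃ u ∈ ({1, qI, qJ a b, qI * qJ a b} : Set (Matrix (Fin 2) (Fin 2) F)), ∃ r : F, N = r • u := by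
  have hN0 : N ≠ 0 := fun h0 => hN (by rw [h0, det_zero])
  have hcc : ∀ (U : Matrix (Fin 2) (Fin 2) F) (c : F), U * U = -1 → N * U = c • (U * N) →
      c = 1 ∨ c = -1 := by
    intro U c hU hc
    have h1 : N * (U * U) = c • (c • (U * U * N)) := by
      rw [← mul_assoc, hc, smul_mul_assoc, mul_assoc U N U, hc, mul_smul_comm, ← mul_assoc]
    rw [hU, mul_neg, mul_one, neg_mul, one_mul, smul_smul, smul_neg, neg_inj] at h1
    have h2 : (c * c - 1) • N = 0 := by rw [sub_smul, one_smul, ← h1, sub_self]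
    have := (smul_eq_zero.1 h2).resolve_right hN0
    rcases mul_self_eq_one_iff.1 (sub_eq_zero.1 this) with h | h
    · exact Or.inl h
    · exact Or.inr h
  have hJI := qJ_qI a b
  rcases hcc qI c qI_sq hI with rfl | rfl <;> rcases hcc _ e (qJ_sq h) hJ with rfl | rfl
  · rw [one_smul] at hI hJ
    exact ⟨1, by simp, _, scalar_of_commute h h2 hI hJ⟩
  · rw [one_smul] at hI
    rw [neg_one_smul] at hJ
    have := scalar_of_commute h h2 (N := N * qI) (by rw [hI, mul_assoc, hI])
      (by rw [mul_assoc, show qI * qJ a b = -(qJ a b * qI) by rw [hJI, neg_neg], mul_neg,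
        ← mul_assoc, hJ, neg_mul, neg_neg, mul_assoc])
    refine ⟨qI, by simp, -((N * qI : Matrix (Fin 2) (Fin 2) F) 0 0), ?_⟩
    have h3 := congrArg (· * qI) this
    simp only [mul_assoc, qI_sq, mul_neg, mul_one, smul_mul_assoc, one_mul] at h3
    rw [neg_smul, ← h3, neg_neg]
  · rw [one_smul] at hJ
    rw [neg_one_smul] at hI
    have := scalar_of_commute h h2 (N := N * qJ a b)
      (by rw [mul_assoc, hJI, mul_neg, ← mul_assoc, hI, neg_mul, neg_neg, mul_assoc])
      (by rw [hJ, mul_assoc, hJ])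
    refine ⟨qJ a b, by simp, -(N * qJ a b) 0 0, ?_⟩
    have h3 := congrArg (· * qJ a b) this
    simp only [mul_assoc, qJ_sq h, mul_neg, mul_one, smul_mul_assoc, one_mul] at h3
    rw [neg_smul, ← h3, neg_neg]
  · rw [neg_one_smul] at hI hJ
    set K := qI * qJ a b with hK
    have hKI : K * qI = -(qI * K) := by rw [hK, mul_assoc, hJI, mul_neg]
    have hKJ : K * qJ a b = -(qJ a b * K) := by
      rw [hK, ← mul_assoc (qJ a b), hJI, neg_mul, neg_neg]
    have hKK : K * K = -1 := by
      nth_rewrite 2 [hK]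
      rw [← mul_assoc, hKI, neg_mul, hK, ← mul_assoc qI qI, qI_sq, neg_mul, one_mul, neg_mul,
        qJ_sq h, neg_neg]
    have := scalar_of_commute h h2 (N := N * K)
      (by rw [mul_assoc, hKI, mul_neg, ← mul_assoc, hI, neg_mul, neg_neg, mul_assoc])
      (by rw [mul_assoc, hKJ, mul_neg, ← mul_assoc, hJ, neg_mul, neg_neg, mul_assoc])
    refine ⟨K, by simp, -(N * K) 0 0, ?_⟩
    have h3 := congrArg (· * K) this
    simp only [mul_assoc, hKK, mul_neg, mul_one, smul_mul_assoc, one_mul] at h3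
    rw [neg_smul, ← h3, neg_neg]

section Group

local notation "SL" => Matrix.SpecialLinearGroup (Fin 2) F
local notation "PSL" => Matrix.ProjectiveSpecialLinearGroup (Fin 2) F
local notation "M" => Matrix (Fin 2) (Fin 2) F

/-- The centralizer in `PGL(2,q)` of the quaternion four-group is that group. -/
theorem gAut_fixing {a b : F} (h : a ^ 2 + b ^ 2 = -1) (h2 : (2 : F) ≠ 0) [Fintype F]
    (I J : SL) (hI : (I : M) = qI) (hJ : (J : M) = qJ a b) {g : GL (Fin 2) F}
    (fI : (gAut g : MulAut PSL) (QuotientGroup.mk I) = QuotientGroup.mk I)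
    (fJ : (gAut g : MulAut PSL) (QuotientGroup.mk J) = QuotientGroup.mk J) :
    ∃ v ∈ ({1, QuotientGroup.mk I, QuotientGroup.mk J, QuotientGroup.mk (I * J)} : Set PSL),
      (gAut g : MulAut PSL) = MulAut.conj v := by
  have key : ∀ U : SL, (gAut g : MulAut PSL) (QuotientGroup.mk U) = QuotientGroup.mk U →
      ∃ c : F, (g : M) * (U : M) = c • ((U : M) * (g : M)) := by
    intro U hU
    obtain ⟨c, hc⟩ := (mk_eq_mk_iff U (conjSL g U)).1 hU.symm
    refine ⟨c, ?_⟩
    rw [conjSL_coe] at hc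
    have := congrArg (· * (g : M)) hc
    simpa [mul_assoc, smul_mul_assoc] using this
  obtain ⟨c, hc⟩ := key I fI
  obtain ⟨e, he⟩ := key J fJ
  rw [hI] at hc
  rw [hJ] at he
  obtain ⟨u, hu, r, hr⟩ := projective_centralizer h h2
    ((Matrix.isUnit_iff_isUnit_det _).1 g.isUnit).ne_zero hc he
  have main : ∀ U : SL, (U : M) = u →
      (gAut g : MulAut PSL) = MulAut.conj (QuotientGroup.mk U : PSL) := by
    intro U hU
    have hr0 : r ≠ 0 := fun h0 => ((Matrix.isUnit_iff_isUnit_det _).1 g.isUnit).ne_zero (by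
      rw [hr, h0, zero_smul, det_zero])
    refine MulEquiv.ext fun z => ?_
    induction z using QuotientGroup.induction_on with | H s => ?_
    show (QuotientGroup.mk (conjSL g s) : PSL) =
      (QuotientGroup.mk U : PSL) * QuotientGroup.mk s * (QuotientGroup.mk U : PSL)⁻¹
    rw [← QuotientGroup.mk_mul, ← QuotientGroup.mk_inv, ← QuotientGroup.mk_mul]
    congr 1
    refine Subtype.ext ?_
    rw [conjSL_coe]
    have e1 : ((U : M) * (s : M)) = ((U * s * U⁻¹ : SL) : M) * (U : M) := by
      rw [← Matrix.SpecialLinearGroup.coe_mul, ← Matrix.SpecialLinearGroup.coe_mul,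
        inv_mul_cancel_right]
    have e2 : (g : M) * (s : M) = ((U * s * U⁻¹ : SL) : M) * (g : M) := by
      rw [hr, ← hU, smul_mul_assoc, mul_smul_comm, e1]
    rw [e2, mul_assoc, Units.mul_inv, mul_one]
  rcases hu with rfl | rfl | rfl | rfl
  · exact ⟨1, by simp, main 1 (by simp)⟩
  · exact ⟨_, by simp, main I hI⟩
  · exact ⟨_, by simp, main J hJ⟩
  · exact ⟨_, by simp, main (I * J) (by simp [hI, hJ])⟩

theorem conjAut_eq (s : SL) :
    MulAut.conj (QuotientGroup.mk s : PSL) = gAut (Matrix.SpecialLinearGroup.toGL s) :=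
  Cfsg.Agent.AutPSL.Frame.conj_mk_eq_gAut s

theorem ringAut_odd [Fintype F] {p f : ℕ} [Fact p.Prime] (hF : Fintype.card F = p ^ f) (hf : Odd f)
    {σ : F ≃+* F} {k : ℕ} (hσ : σ ^ (2 ^ k) = 1) : σ = 1 := by
  obtain ⟨e⟩ := exists_ringAut_equiv hF
  haveI : NeZero f := ⟨hf.pos.ne'⟩
  have h1 : orderOf (e σ) ∣ f := by
    have := orderOf_dvd_natCard (e σ)
    rwa [Nat.card_congr Multiplicative.toAdd, Nat.card_zmod] at this
  have h2 : orderOf (e σ) ∣ 2 ^ k :=
    orderOf_dvd_of_pow_eq_one (by rw [← map_pow, hσ, map_one])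
  have : orderOf (e σ) = 1 :=
    Nat.eq_one_of_dvd_coprimes ((Nat.coprime_two_right.2 hf).pow_right k) h1 h2
  exact e.injective (by rw [orderOf_eq_one_iff.1 this, map_one])

/-- Abelian Sylow `2`-subgroups: the four-group and the element of order three normalizing it. -/
theorem klein {P : Type*} [Group P] [Finite P] [Fintype F] (hodd : Odd (Fintype.card F))
    (e : P ≃* PSL) (hab : ∀ Q : Sylow 2 P, ∀ x ∈ (Q : Subgroup P), ∀ z ∈ (Q : Subgroup P), x * z = z * x) :
    ∃ i j y : P, i * i = 1 ∧ j * j = 1 ∧ i * j = j * i ∧ i ≠ 1 ∧ j ≠ 1 ∧ i * j ≠ 1 ∧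
      y * i * y⁻¹ = i * j ∧ y * j * y⁻¹ = i ∧
      ∀ (β : MulAut P) (k : ℕ), β ^ (2 ^ k) = 1 → β i = i → β j = j →
        ∃ v ∈ ({1, i, j, i * j} : Set P), β = MulAut.conj v := by
  classical
  haveI : Fact (Nat.Prime 2) := ⟨Nat.prime_two⟩
  have h2 : (2 : F) ≠ 0 := fun h0 => by
    haveI : CharP F 2 := CharTwo.of_one_ne_zero_of_two_eq_zero one_ne_zero h0
    obtain ⟨n, -, hn⟩ := FiniteField.card F 2
    rw [hn] at hodd
    exact (Nat.not_odd_iff_even.2 ((Nat.even_pow' n.ne_zero).2 even_two)) hodd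
  obtain ⟨a, b, hab'⟩ : ∃ a b : F, a ^ 2 + b ^ 2 = -1 := by
    haveI : NeZero (ringChar F) := ⟨CharP.ringChar_ne_zero_of_finite F⟩
    obtain ⟨a, b, hab'⟩ := CharP.sq_add_sq F (ringChar F) (-1)
    exact ⟨a, b, by simpa using hab'⟩
  let I : SL := ⟨qI, qI_det⟩
  let J : SL := ⟨qJ a b, qJ_det hab'⟩
  let mkP : SL →* PSL := QuotientGroup.mk' _
  have hnegone : ∀ U : SL, (U : M) = -1 → mkP U = 1 := fun U hU =>
    (mk_eq_one_iff U).2 ⟨-1, by rw [hU, neg_one_smul]⟩
  have hne : ∀ U : SL, (U : M) * (U : M) = -1 → mkP U ≠ 1 := fun U hU h1 => by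
    obtain ⟨c, hc⟩ := (mk_eq_one_iff U).1 h1
    have hd : (U : M).det = 1 := U.prop
    rw [hc, det_smul, det_one, Fintype.card_fin, mul_one, sq] at hd
    rw [hc, smul_mul_assoc, one_mul, smul_smul, hd, one_smul] at hU
    have := congrFun (congrFun hU 0) 0
    simp only [Matrix.one_apply_eq, Matrix.neg_apply] at this
    exact h2 (by linear_combination this)
  have hsq : ∀ U : SL, (U : M) * (U : M) = -1 → mkP U * mkP U = 1 := fun U hU => by
    rw [← map_mul]; exact hnegone _ (by simpa using hU)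
  have hKK : ((I * J : SL) : M) * ((I * J : SL) : M) = -1 := by
    show qI * qJ a b * (qI * qJ a b) = -1
    rw [mul_assoc, ← mul_assoc (qJ a b), qJ_qI, neg_mul, mul_neg, ← mul_assoc, ← mul_assoc, qI_sq,
      neg_mul, neg_mul, one_mul, qJ_sq hab', neg_neg]
  have hcomm : mkP I * mkP J = mkP J * mkP I := by
    rw [← map_mul, ← map_mul]
    refine (mk_eq_mk_iff _ _).2 ⟨-1, ?_⟩
    rw [neg_one_smul]
    exact qJ_qI a b
  let Y : SL := ⟨(2 : F)⁻¹ • (-1 + qI + qJ a b + qI * qJ a b), by
    rw [det_smul, Fintype.card_fin]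
    have : (-1 + qI + qJ a b + qI * qJ a b : M).det = 4 := by
      simp only [qI, qJ, det_fin_two, Matrix.mul_apply, Fin.sum_univ_two, Matrix.add_apply,
        Matrix.neg_apply, Matrix.one_apply]
      simp
      linear_combination (-2 : F) * hab'
    rw [this]; field_simp; norm_num⟩
  have hYI : mkP Y * mkP I * (mkP Y)⁻¹ = mkP I * mkP J := by
    rw [mul_inv_eq_iff_eq_mul, ← map_mul, ← map_mul, ← map_mul]
    refine congrArg _ (Subtype.ext ?_)
    show (2 : F)⁻¹ • (-1 + qI + qJ a b + qI * qJ a b) * qI =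
      qI * qJ a b * ((2 : F)⁻¹ • (-1 + qI + qJ a b + qI * qJ a b))
    rw [smul_mul_assoc, mul_smul_comm]
    congr 1
    ext r s; fin_cases r <;> fin_cases s <;>
      simp [qI, qJ, Matrix.mul_apply, Fin.sum_univ_two] <;>
      first
        | linear_combination hab'
        | linear_combination -hab'
        | ring1
  have hYJ : mkP Y * mkP J * (mkP Y)⁻¹ = mkP I := by
    rw [mul_inv_eq_iff_eq_mul, ← map_mul, ← map_mul]
    refine congrArg _ (Subtype.ext ?_)
    show (2 : F)⁻¹ • (-1 + qI + qJ a b + qI * qJ a b) * qJ a b =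
      qI * ((2 : F)⁻¹ • (-1 + qI + qJ a b + qI * qJ a b))
    rw [smul_mul_assoc, mul_smul_comm]
    congr 1
    ext r s; fin_cases r <;> fin_cases s <;>
      simp [qI, qJ, Matrix.mul_apply, Fin.sum_univ_two] <;>
      first
        | linear_combination hab'
        | linear_combination -hab'
        | ring1
  -- every 2-element squares to one, so the degree of `F` is odd
  have hexp : ∀ z : P, (∃ k : ℕ, z ^ 2 ^ k = 1) → z ^ 2 = 1 := by
    let W : Subgroup P := Subgroup.closure {e.symm (mkP I), e.symm (mkP J)}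
    have hWc : ∀ x ∈ W, ∀ z ∈ W, x * z = z * x := by
      have h1 : IsMulCommutative W := Subgroup.isMulCommutative_closure (by
        intro x hx z hz
        rcases hx with rfl | rfl <;> rcases hz with rfl | rfl
        · rfl
        · rw [← map_mul e.symm, ← map_mul e.symm, hcomm]
        · rw [← map_mul e.symm, ← map_mul e.symm, hcomm]
        · rfl)
      exact fun x hx z hz => congrArg Subtype.val (h1.is_comm.comm (⟨x, hx⟩ : W) ⟨z, hz⟩)
    have hW2 : ∀ x ∈ W, x ^ 2 = 1 := by
      intro x hx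
      induction hx using Subgroup.closure_induction with
      | mem x hx =>
        rcases hx with rfl | rfl <;> rw [← map_pow, pow_two]
        · rw [hsq I qI_sq, map_one]
        · rw [hsq J (qJ_sq hab'), map_one]
      | one => exact one_pow 2
      | mul x z hx hz h1 h3 => rw [(show Commute x z from hWc x hx z hz).mul_pow, h1, h3, one_mul]
      | inv x _ h1 => rw [inv_pow, h1, inv_one]
    obtain ⟨Q, hQ⟩ := (show IsPGroup 2 W from fun x => ⟨1, Subtype.ext (by
      rw [SubgroupClass.coe_pow, pow_one]; exact hW2 _ x.2)⟩).exists_le_sylow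
    have hI' : e.symm (mkP I) ∈ (Q : Subgroup P) := hQ (Subgroup.subset_closure (by simp))
    have hJ' : e.symm (mkP J) ∈ (Q : Subgroup P) := hQ (Subgroup.subset_closure (by simp))
    have hQ2 : ∀ z ∈ (Q : Subgroup P), z ^ 2 = 1 := by
      intro z hz
      obtain ⟨s, hs⟩ : ∃ s : SL, mkP s = e z := QuotientGroup.mk'_surjective _ (e z)
      have hc : ∀ U : SL, e.symm (mkP U) ∈ (Q : Subgroup P) →
          (gAut (Matrix.SpecialLinearGroup.toGL s) : MulAut PSL) (QuotientGroup.mk U) =
            QuotientGroup.mk U := by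
        intro U hU
        rw [← conjAut_eq, MulAut.conj_apply]
        show mkP s * mkP U * (mkP s)⁻¹ = mkP U
        rw [hs, mul_inv_eq_iff_eq_mul]
        have := congrArg e (hab Q z hz _ hU)
        simpa using this
      obtain ⟨v, hv, hv'⟩ := gAut_fixing hab' h2 I J rfl rfl (hc I hI') (hc J hJ')
      rw [← conjAut_eq] at hv'
      have hzv : e z * v⁻¹ ∈ Subgroup.center PSL := by
        rw [Subgroup.mem_center_iff]
        intro w
        have := congrArg (fun β : MulAut PSL => β (v⁻¹ * w * v)) hv'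
        simp only [MulAut.conj_apply] at this
        rw [show (QuotientGroup.mk s : PSL) = e z from hs] at this
        rw [show v * (v⁻¹ * w * v) * v⁻¹ = w by group] at this
        calc w * (e z * v⁻¹) = e z * (v⁻¹ * w * v) * (e z)⁻¹ * (e z * v⁻¹) := by rw [this]
          _ = e z * v⁻¹ * w := by group
      have hcz : Subgroup.center PSL = ⊥ := by
        refine (Subgroup.eq_bot_iff_forall _).2 fun w hw => ?_
        obtain ⟨s, rfl⟩ := QuotientGroup.mk'_surjective _ w
        have h1 : (gAut (Matrix.SpecialLinearGroup.toGL s) : MulAut PSL) = 1 := by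
          rw [← conjAut_eq]
          refine MulEquiv.ext fun u => ?_
          rw [MulAut.conj_apply]
          show mkP s * u * (mkP s)⁻¹ = u
          rw [← (Subgroup.mem_center_iff.1 hw u), mul_inv_cancel_right]
        rw [gAut_eq_one_iff le_rfl, Matrix.GeneralLinearGroup.mem_center_iff_val_mem_range_scalar] at h1
        obtain ⟨c, hc⟩ := h1
        exact (mk_eq_one_iff s).2 ⟨c, by
          rw [smul_one_eq_diagonal, ← Matrix.scalar_apply, hc]; rfl⟩
      rw [hcz, Subgroup.mem_bot, mul_inv_eq_one] at hzv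
      apply e.injective
      rw [map_pow, hzv, map_one, pow_two]
      rcases hv with rfl | rfl | rfl | rfl
      · exact one_mul 1
      · exact hsq I qI_sq
      · exact hsq J (qJ_sq hab')
      · exact hsq (I * J) hKK
    intro z hz
    obtain ⟨k, hk⟩ := hz
    obtain ⟨R, hR⟩ := (show IsPGroup 2 (Subgroup.zpowers z) from fun x => by
      obtain ⟨l, hl⟩ := x.2
      refine ⟨k, Subtype.ext ?_⟩
      rw [SubgroupClass.coe_pow, Subgroup.coe_one, ← hl]
      show (z ^ l) ^ 2 ^ k = 1
      rw [← zpow_natCast, ← _root_.zpow_mul, mul_comm, _root_.zpow_mul, zpow_natCast, hk,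
        _root_.one_zpow]).exists_le_sylow
    obtain ⟨g, hg⟩ := MulAction.exists_smul_eq P R Q
    have h1 : g * z * g⁻¹ ∈ (Q : Subgroup P) := by
      rw [← hg, Sylow.coe_subgroup_smul]
      exact ⟨z, hR (Subgroup.mem_zpowers z), rfl⟩
    have h3 := hQ2 _ h1
    rw [conj_pow, mul_inv_eq_one] at h3
    exact mul_left_cancel (h3.trans (mul_one g).symm)
  obtain ⟨p, hchar⟩ := CharP.exists F
  obtain ⟨f, hp, hF⟩ := FiniteField.card F p
  haveI := Fact.mk hp
  have hfodd : Odd (f : ℕ) := by
    by_contra hcon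
    obtain ⟨m, hm⟩ := Nat.not_odd_iff_even.1 hcon
    have hp2 : Odd p := by
      rw [hF] at hodd
      exact (Nat.odd_pow_iff f.ne_zero).1 hodd
    have h8 : 8 ∣ Fintype.card Fˣ := by
      rw [Fintype.card_units, hF, hm, ← two_mul, pow_mul', sq]
      obtain ⟨r, hr⟩ := Odd.pow (n := m) hp2
      rw [hr, show (2 * r + 1) * (2 * r + 1) - 1 = 4 * (r * (r + 1)) by
        rw [show (2 * r + 1) * (2 * r + 1) = 4 * (r * (r + 1)) + 1 by ring]; rfl]
      exact (show 8 = 4 * 2 by norm_num) ▸ mul_dvd_mul_left 4 (Nat.even_mul_succ_self r).two_dvd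
    obtain ⟨u, hu⟩ := IsCyclic.exists_generator (α := Fˣ)
    obtain ⟨w, hw⟩ := h8
    have hou : orderOf (u ^ w) = 8 := by
      have h0 : orderOf u = 8 * w := by
        rw [orderOf_eq_card_of_forall_mem_zpowers hu, Nat.card_eq_fintype_card, hw]
      have hw0 : w ≠ 0 := fun h => by simp [h, Fintype.card_ne_zero] at hw
      rw [orderOf_pow_of_dvd hw0 ⟨8, by rw [h0, mul_comm]⟩, h0, Nat.mul_div_cancel _ (Nat.pos_of_ne_zero hw0)]
    let D : SL := ⟨!![((u ^ w : Fˣ) : F), 0; 0, (((u ^ w)⁻¹ : Fˣ) : F)], by simp [det_fin_two]⟩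
    have hD : D ^ 8 = 1 := by
      have : (D : M) = Matrix.diagonal ![((u ^ w : Fˣ) : F), (((u ^ w)⁻¹ : Fˣ) : F)] := by
        ext r s; fin_cases r <;> fin_cases s <;> simp [D]
      refine Subtype.ext ?_
      rw [Matrix.SpecialLinearGroup.coe_pow, this, Matrix.diagonal_pow, Matrix.SpecialLinearGroup.coe_one,
        ← Matrix.diagonal_one]
      congr 1
      have h1 : ((u ^ w : Fˣ) : F) ^ 8 = 1 := by
        rw [← Units.val_pow_eq_pow_val, ← hou, pow_orderOf_eq_one, Units.val_one]
      funext r; fin_cases r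
      · simpa using h1
      · simp only [Pi.pow_apply, Fin.reduceFinMk, Matrix.cons_val_one, Matrix.cons_val_fin_one,
          Units.val_inv_eq_inv_val, inv_pow, h1, inv_one]
    have h3 := congrArg e (hexp (e.symm (mkP D)) ⟨3, by
      rw [← map_pow, ← map_pow, show (2 : ℕ) ^ 3 = 8 by norm_num, hD, map_one, map_one]⟩)
    rw [map_pow, e.apply_symm_apply, map_one, ← map_pow] at h3
    obtain ⟨c, hc⟩ := (mk_eq_one_iff (D ^ 2)).1 h3
    rw [Matrix.SpecialLinearGroup.coe_pow, pow_two] at hc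
    have e0 := congrFun (congrFun hc 0) 0
    have e1 := congrFun (congrFun hc 1) 1
    simp [D, Matrix.mul_apply, Fin.sum_univ_two] at e0 e1
    have hne : ((u ^ w : Fˣ) : F) ≠ 0 := Units.ne_zero _
    have h4 : (u ^ w) ^ 4 = 1 := by
      refine Units.ext ?_
      push_cast at e0 e1 hne ⊢
      field_simp at e1
      linear_combination ((u : F) ^ w) ^ 2 * e0 - e1
    have := Nat.le_of_dvd (by norm_num) (orderOf_dvd_of_pow_eq_one h4)
    omega
  refine ⟨e.symm (mkP I), e.symm (mkP J), e.symm (mkP Y), ?_, ?_, ?_, ?_, ?_, ?_, ?_, ?_, ?_⟩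
  · rw [← map_mul, hsq I qI_sq, map_one]
  · rw [← map_mul, hsq J (qJ_sq hab'), map_one]
  · rw [← map_mul e.symm, ← map_mul e.symm, hcomm]
  · exact fun h => hne I qI_sq (by simpa using h)
  · exact fun h => hne J (qJ_sq hab') (by simpa using h)
  · exact fun h => hne (I * J) hKK (by
      rw [map_mul]
      exact e.symm.map_eq_one_iff.1 (by rwa [map_mul]))
  · rw [← map_inv e.symm, ← map_mul e.symm, ← map_mul e.symm, ← map_mul e.symm, hYI]
  · rw [← map_inv e.symm, ← map_mul e.symm, ← map_mul e.symm, hYJ]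
  intro β k hβ hβI hβJ
  set β' := MulAut.congr e β with hβ'
  obtain ⟨ψ, -, hψker⟩ := exists_proj_two (F := F)
  have hmem : β' ∈ (gAut (n := 2) (F := F)).range := by
    rw [← hψker, MonoidHom.mem_ker]
    exact ringAut_odd hF hfodd (k := k) (by rw [← map_pow, hβ', ← map_pow, hβ, map_one, map_one])
  obtain ⟨g, hg⟩ := hmem
  obtain ⟨v, hv, hgv⟩ := gAut_fixing hab' h2 I J rfl rfl (g := g)
    (by rw [hg]; show e (β (e.symm (mkP I))) = mkP I; rw [hβI, e.apply_symm_apply])
    (by rw [hg]; show e (β (e.symm (mkP J))) = mkP J; rw [hβJ, e.apply_symm_apply])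
  refine ⟨e.symm v, ?_, ?_⟩
  · rcases hv with rfl | rfl | rfl | rfl
    · simp
    · exact Or.inr (Or.inl rfl)
    · exact Or.inr (Or.inr (Or.inl rfl))
    · refine Or.inr (Or.inr (Or.inr ?_))
      rw [Set.mem_singleton_iff, ← map_mul]
      rfl
  · refine MulEquiv.ext fun z => e.injective ?_
    rw [MulAut.conj_apply, map_mul, map_mul, map_inv, e.apply_symm_apply]
    have := congrArg (fun γ : MulAut PSL => γ (e z)) (hg.symm.trans hgv)
    simpa [hβ', MulAut.congr] using this

end Group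

end Cfsg.Agent.JankoReeType.KleinFour
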