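import Mathlib
import Cfsg.Prelude.Def_Transfer
import Cfsg.Prelude.Def_TwoFusion
import Cfsg.Agent.Lib.JankoReeType.KleinFour
import Cfsg.Agent.Lib.CharTheory.SylowEightAutomizer.Automizer

/-!
Simple groups with abelian Sylow 2-subgroups and an involution centralizer `⟨t⟩ × E`, `E` with a
normal `PSL(2,q)`: the Sylow subgroup is `E₈` with all involutions fused, so there is no perfect
central 2-extension and the 2-automorphisms fixing a Sylow subgroup are inner.
-/

set_option autoImplicit false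
set_option linter.style.haveILetI false
set_option linter.unusedSectionVars false

namespace Cfsg.Agent.JankoReeType

open Cfsg.Agent.CharTheory.SylowEightAutomizer

universe u

variable {G : Type u} [Group G] [Finite G]

/-- The configuration inside a Sylow subgroup `S ∋ t`. -/
structure Config (S : Sylow 2 G) (N : Subgroup G) (t i j y : G) : Prop where
  t_ord : orderOf t = 2
  t_ne : t ≠ 1
  ab : ∀ a ∈ (S : Subgroup G), ∀ b ∈ (S : Subgroup G), a * b = b * a
  t_mem : t ∈ (S : Subgroup G)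
  i_mem : i ∈ (S : Subgroup G)
  j_mem : j ∈ (S : Subgroup G)
  sq : ∀ s ∈ (S : Subgroup G), s * s = 1
  cases : ∀ s ∈ (S : Subgroup G), ∃ v ∈ ({1, i, j, i * j} : Set G), s = v ∨ s = t * v
  indep : ∀ v ∈ ({1, i, j, i * j} : Set G), v ≠ t
  i_ne : i ≠ 1
  j_ne : j ≠ 1
  ij_ne : i * j ≠ 1
  y_t : Commute y t
  y_i : y * i * y⁻¹ = i * j
  y_j : y * j * y⁻¹ = i
  N_le : N ≤ Subgroup.centralizer ({t} : Set G)
  N_norm : ∀ c ∈ Subgroup.centralizer ({t} : Set G), ∀ n ∈ N, c * n * c⁻¹ ∈ N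
  N_cent : ∀ c ∈ Subgroup.centralizer ({t} : Set G), (∀ n ∈ N, c * n = n * c) → c = 1 ∨ c = t
  i_N : i ∈ N
  j_N : j ∈ N
  klein : ∀ (β : MulAut N) (k : ℕ), β ^ (2 ^ k) = 1 → (∀ n : N, ((n : G) = i ∨ (n : G) = j) → β n = n) →
    ∃ v ∈ ({1, i, j, i * j} : Set G), ∀ n : N, (β n : G) = v * n * v⁻¹

theorem exists_config (hab : ∀ S : Sylow 2 G, IsMulCommutative ↥(S : Subgroup G))
    (t : G) (ht : orderOf t = 2)
    (E : Subgroup G) (hE : Cfsg.IsInternalDirectProduct (Subgroup.zpowers t) E (Subgroup.centralizer ({t} : Set G)))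
    {F : Type*} [Field F] [Fintype F] (hFo : Odd (Fintype.card F))
    (N : Subgroup ↥E) [N.Normal] (hN : Nonempty (↥N ≃* Matrix.ProjectiveSpecialLinearGroup (Fin 2) F))
    (hNc : Subgroup.centralizer (N : Set ↥E) = ⊥) :
    ∃ S i j y, Config (G := G) S (N.map E.subtype) t i j y := by
  classical
  haveI : Fact (Nat.Prime 2) := ⟨Nat.prime_two⟩
  obtain ⟨htC, hEC, hcom, hdisj, hsup⟩ := hE
  obtain ⟨e⟩ := hN
  set C := Subgroup.centralizer ({t} : Set G) with hCdef
  set N' := N.map E.subtype with hN'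
  have hNE : N' ≤ E := Subgroup.map_subtype_le N
  have ht1 : t ≠ 1 := fun h => by rw [h, orderOf_one] at ht; omega
  have htt : t * t = 1 := by rw [← pow_two, ← ht, pow_orderOf_eq_one]
  have htz : ∀ a ∈ Subgroup.zpowers t, a = 1 ∨ a = t := by
    rintro a ⟨n, rfl⟩
    show t ^ n = 1 ∨ t ^ n = t
    rcases Int.even_or_odd n with ⟨m, rfl⟩ | ⟨m, rfl⟩
    · left; rw [← two_mul, zpow_mul, zpow_two, htt, one_zpow]
    · right; rw [zpow_add, zpow_mul, zpow_two, htt, one_zpow, one_mul, zpow_one]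
  have hdec : ∀ c ∈ C, ∃ w ∈ E, c = w ∨ c = t * w := by
    intro c hc
    rw [← hsup] at hc
    have hn : Subgroup.zpowers t ≤ Subgroup.normalizer (E : Set G) := fun a ha =>
      Subgroup.centralizer_le_normalizer _ (Subgroup.mem_centralizer_iff.2 fun b hb =>
        (hcom a ha b hb).symm)
    rw [← SetLike.mem_coe, Subgroup.coe_mul_of_left_le_normalizer_right _ _ hn] at hc
    obtain ⟨a, ha, w, hw, rfl⟩ := hc
    refine ⟨w, hw, ?_⟩
    rcases htz a ha with rfl | rfl
    · exact Or.inl (one_mul w)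
    · exact Or.inr rfl
  have htE : t ∉ E := fun h => ht1 (by
    have : t ∈ Subgroup.zpowers t ⊓ E := ⟨Subgroup.mem_zpowers t, h⟩
    rwa [hdisj, Subgroup.mem_bot] at this)
  have hwt : ∀ w ∈ E, Commute t w := fun w hw => hcom t (Subgroup.mem_zpowers t) w hw
  have hNmem : ∀ n : N, ((n : E) : G) ∈ N' := fun n => Subgroup.mem_map_of_mem _ n.2
  -- the four-group in `N`
  have habN : ∀ Q : Sylow 2 N, ∀ a ∈ (Q : Subgroup N), ∀ b ∈ (Q : Subgroup N), a * b = b * a := by
    intro Q a ha b hb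
    obtain ⟨R, hR⟩ := (Q.isPGroup'.map (E.subtype.comp N.subtype)).exists_le_sylow
    have := congrArg Subtype.val ((hab R).is_comm.comm ⟨_, hR (Subgroup.mem_map_of_mem _ ha)⟩
      ⟨_, hR (Subgroup.mem_map_of_mem _ hb)⟩)
    exact Subtype.ext (Subtype.ext this)
  obtain ⟨i₀, j₀, y₀, hi2, hj2, hij, hi1, hj1, hij1, hyi, hyj, hkl⟩ :=
    KleinFour.klein hFo e habN
  set i : G := ((i₀ : E) : G) with hidef
  set j : G := ((j₀ : E) : G) with hjdef
  set y : G := ((y₀ : E) : G) with hydef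
  let ι : N →* G := E.subtype.comp N.subtype
  have hι : Function.Injective ι := fun a b h => Subtype.ext (Subtype.ext h)
  have hVG : ∀ v ∈ ({1, i₀, j₀, i₀ * j₀} : Set N), ι v ∈ ({1, i, j, i * j} : Set G) := by
    rintro v (rfl | rfl | rfl | rfl)
    · exact Or.inl rfl
    · exact Or.inr (Or.inl rfl)
    · exact Or.inr (Or.inr (Or.inl rfl))
    · exact Or.inr (Or.inr (Or.inr rfl))
  -- the abelian 2-group `⟨t, i, j⟩`
  have hgen : ∀ a ∈ ({t, i, j} : Set G), ∀ b ∈ ({t, i, j} : Set G), a * b = b * a := by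
    rintro a (rfl | rfl | rfl) b (rfl | rfl | rfl)
    all_goals first
      | rfl
      | exact hcom _ (Subgroup.mem_zpowers _) _ (SetLike.coe_mem _)
      | exact (hcom _ (Subgroup.mem_zpowers _) _ (SetLike.coe_mem _)).symm
      | exact congrArg ι hij
      | exact (congrArg ι hij).symm
  have hsq : ∀ a ∈ ({t, i, j} : Set G), a * a = 1 := by
    rintro a (rfl | rfl | rfl)
    · exact htt
    · exact congrArg ι hi2
    · exact congrArg ι hj2
  let W := Subgroup.closure ({t, i, j} : Set G)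
  have hWc : IsMulCommutative W := Subgroup.isMulCommutative_closure hgen
  have hWsq : ∀ a ∈ W, a * a = 1 := by
    intro a ha
    induction ha using Subgroup.closure_induction with
    | mem a ha => exact hsq a ha
    | one => exact one_mul 1
    | mul a b ha hb h1 h2 =>
      have hc : a * b = b * a :=
        congrArg Subtype.val (hWc.is_comm.comm (⟨a, ha⟩ : W) ⟨b, hb⟩)
      calc a * b * (a * b) = a * b * (b * a) := by rw [← hc]
        _ = a * (b * b) * a := by group
        _ = 1 := by rw [h2, mul_one, h1]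
    | inv a _ h1 => rw [← mul_inv_rev, h1, inv_one]
  obtain ⟨S, hS⟩ := (show IsPGroup 2 W from fun a => ⟨1, Subtype.ext (by
    rw [SubgroupClass.coe_pow, pow_one, pow_two]; exact hWsq _ a.2)⟩).exists_le_sylow
  have hSab : ∀ a ∈ (S : Subgroup G), ∀ b ∈ (S : Subgroup G), a * b = b * a := fun a ha b hb =>
    congrArg Subtype.val ((hab S).is_comm.comm (⟨a, ha⟩ : (S : Subgroup G)) ⟨b, hb⟩)
  have htS : t ∈ (S : Subgroup G) := hS (Subgroup.subset_closure (by simp))
  have hiS : i ∈ (S : Subgroup G) := hS (Subgroup.subset_closure (by simp))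
  have hjS : j ∈ (S : Subgroup G) := hS (Subgroup.subset_closure (by simp))
  have hVS : ∀ v ∈ ({1, i, j, i * j} : Set G), v ∈ (S : Subgroup G) := by
    rintro v (rfl | rfl | rfl | rfl)
    exacts [one_mem _, hiS, hjS, mul_mem hiS hjS]
  have hnorm : ∀ c ∈ C, ∀ n ∈ N', c * n * c⁻¹ ∈ N' := by
    rintro c hc _ ⟨n, hn, rfl⟩
    obtain ⟨w, hw, rfl | rfl⟩ := hdec c hc
    · exact ⟨⟨c, hw⟩ * n * ⟨c, hw⟩⁻¹, ‹N.Normal›.conj_mem n hn _, rfl⟩
    · refine ⟨⟨w, hw⟩ * n * ⟨w, hw⟩⁻¹, ‹N.Normal›.conj_mem n hn _, ?_⟩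
      show w * (n : G) * w⁻¹ = t * w * (n : G) * (t * w)⁻¹
      have h1 := hwt (w * (n : G) * w⁻¹) (mul_mem (mul_mem hw n.2) (inv_mem hw))
      rw [mul_inv_rev, show t * w * (n : G) * (w⁻¹ * t⁻¹) = t * (w * n * w⁻¹) * t⁻¹ by group, h1.eq,
        mul_inv_cancel_right]
  have hcentE : ∀ w ∈ E, (∀ n ∈ N', w * n = n * w) → w = 1 := by
    intro w hw h
    have : (⟨w, hw⟩ : E) ∈ Subgroup.centralizer (N : Set E) :=
      Subgroup.mem_centralizer_iff.2 fun n hn =>
        Subtype.ext (h _ (Subgroup.mem_map_of_mem E.subtype hn)).symm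
    rw [hNc, Subgroup.mem_bot] at this
    exact congrArg Subtype.val this
  have hkl' : ∀ (β : MulAut N') (k : ℕ), β ^ (2 ^ k) = 1 →
      (∀ n : N', ((n : G) = i ∨ (n : G) = j) → β n = n) →
      ∃ v ∈ ({1, i, j, i * j} : Set G), ∀ n : N', (β n : G) = v * n * v⁻¹ := by
    intro β k hβ hfix
    let η := N.equivMapOfInjective E.subtype E.subtype_injective
    obtain ⟨v, hv, hv'⟩ := hkl (MulAut.congr η.symm β) k
      (by rw [← map_pow, hβ, map_one])
      (by show η.symm (β (η i₀)) = i₀; rw [hfix _ (Or.inl rfl), η.symm_apply_apply])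
      (by show η.symm (β (η j₀)) = j₀; rw [hfix _ (Or.inr rfl), η.symm_apply_apply])
    refine ⟨ι v, hVG v hv, fun n => ?_⟩
    have h1 : η.symm (β (η (η.symm n))) = v * η.symm n * v⁻¹ :=
      congrArg (fun γ : MulAut N => γ (η.symm n)) hv'
    rw [η.apply_symm_apply] at h1
    have h2 := congrArg η h1
    rw [η.apply_symm_apply, map_mul, map_mul, map_inv, η.apply_symm_apply] at h2
    rw [h2]
    rfl
  refine ⟨S, i, j, y, ht, ht1, hSab, htS, hiS, hjS, ?_, ?_, ?_, fun h => hi1 (hι h),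
    fun h => hj1 (hι h), fun h => hij1 (hι h), (hwt y (SetLike.coe_mem _)).symm, congrArg ι hyi,
    congrArg ι hyj, fun n hn => hEC (hNE hn), hnorm, ?_, hNmem i₀, hNmem j₀, hkl'⟩
  case refine_3 =>
    intro v hv h
    refine htE (h ▸ ?_)
    rcases hv with rfl | rfl | rfl | rfl
    exacts [one_mem _, SetLike.coe_mem _, SetLike.coe_mem _, mul_mem (SetLike.coe_mem _) (SetLike.coe_mem _)]
  case refine_4 =>
    intro c hc h
    obtain ⟨w, hw, rfl | rfl⟩ := hdec c hc
    · exact Or.inl (hcentE c hw h)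
    · refine Or.inr ?_
      rw [hcentE w hw fun n hn => ?_, mul_one]
      have h1 := h n hn
      rw [mul_assoc, ← mul_assoc n t w, ← (hwt n (hNE hn)).eq, mul_assoc t n w] at h1
      exact mul_left_cancel h1
  all_goals skip
  · intro s hs
    obtain ⟨v, hv, hs'⟩ : ∃ v ∈ ({1, i, j, i * j} : Set G), s = v ∨ s = t * v := by
      have hsC : s ∈ C := Subgroup.mem_centralizer_singleton_iff.2 (hSab s hs t htS)
      obtain ⟨w, hw, hsw⟩ := hdec s hsC
      have hwS : w ∈ (S : Subgroup G) := by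
        rcases hsw with rfl | rfl
        · exact hs
        · have := mul_mem (inv_mem htS) hs
          rwa [inv_mul_cancel_left] at this
      let β : MulAut N' :=
        { toFun := fun n => ⟨w * n * w⁻¹, hnorm w (hEC hw) _ n.2⟩
          invFun := fun n => ⟨w⁻¹ * n * w, by
            simpa using hnorm w⁻¹ (inv_mem (hEC hw)) _ n.2⟩
          left_inv := fun n => Subtype.ext (by group)
          right_inv := fun n => Subtype.ext (by group)
          map_mul' := fun a b => Subtype.ext (by simp [mul_assoc]) }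
      have hpow : ∀ (m : ℕ) (n : N'), ((β ^ m) n : G) = w ^ m * n * (w ^ m)⁻¹ := by
        intro m
        induction m with
        | zero => intro n; simp
        | succ m ih =>
          intro n
          rw [pow_succ, MulAut.mul_apply, ih]
          show w ^ m * (w * n * w⁻¹) * (w ^ m)⁻¹ = _
          rw [pow_succ]; group
      obtain ⟨k, hk⟩ := S.isPGroup' ⟨w, hwS⟩
      obtain ⟨v, hv, hvn⟩ := hkl' β k (MulEquiv.ext fun n => Subtype.ext (by
        rw [hpow, show w ^ 2 ^ k = 1 by simpa using congrArg (fun z : (S : Subgroup G) => (z : G)) hk]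
        simp)) (fun n hn => Subtype.ext (by
          show w * n * w⁻¹ = n
          rcases hn with hn | hn <;> rw [hn]
          · rw [hSab w hwS i hiS, mul_inv_cancel_right]
          · rw [hSab w hwS j hjS, mul_inv_cancel_right]))
      refine ⟨v, hv, ?_⟩
      have hvE : v ∈ E := by
        rcases hv with rfl | rfl | rfl | rfl
        exacts [one_mem _, SetLike.coe_mem _, SetLike.coe_mem _,
          mul_mem (SetLike.coe_mem _) (SetLike.coe_mem _)]
      have : v⁻¹ * w = 1 := hcentE _ (mul_mem (inv_mem hvE) hw) fun n hn => by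
        have h1 : w * n * w⁻¹ = v * n * v⁻¹ := hvn ⟨n, hn⟩
        calc v⁻¹ * w * n = v⁻¹ * (w * n * w⁻¹) * w := by group
          _ = n * (v⁻¹ * w) := by rw [h1]; group
      rw [← inv_mul_eq_one.1 this] at hsw
      exact hsw
    rcases hs' with rfl | rfl
    · exact hWsq _ (show s ∈ W from by
        rcases hv with rfl | rfl | rfl | rfl
        exacts [one_mem _, Subgroup.subset_closure (by simp), Subgroup.subset_closure (by simp),
          mul_mem (Subgroup.subset_closure (by simp)) (Subgroup.subset_closure (by simp))])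
    · exact hWsq _ (show t * v ∈ W from mul_mem (Subgroup.subset_closure (by simp)) (by
        rcases hv with rfl | rfl | rfl | rfl
        exacts [one_mem _, Subgroup.subset_closure (by simp), Subgroup.subset_closure (by simp),
          mul_mem (Subgroup.subset_closure (by simp)) (Subgroup.subset_closure (by simp))]))
  · intro s hs
    have hsC : s ∈ C := Subgroup.mem_centralizer_singleton_iff.2 (hSab s hs t htS)
    obtain ⟨w, hw, hsw⟩ := hdec s hsC
    have hwS : w ∈ (S : Subgroup G) := by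
      rcases hsw with rfl | rfl
      · exact hs
      · have := mul_mem (inv_mem htS) hs
        rwa [inv_mul_cancel_left] at this
    let β : MulAut N' :=
      { toFun := fun n => ⟨w * n * w⁻¹, hnorm w (hEC hw) _ n.2⟩
        invFun := fun n => ⟨w⁻¹ * n * w, by simpa using hnorm w⁻¹ (inv_mem (hEC hw)) _ n.2⟩
        left_inv := fun n => Subtype.ext (by group)
        right_inv := fun n => Subtype.ext (by group)
        map_mul' := fun a b => Subtype.ext (by simp [mul_assoc]) }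
    have hpow : ∀ (m : ℕ) (n : N'), ((β ^ m) n : G) = w ^ m * n * (w ^ m)⁻¹ := by
      intro m
      induction m with
      | zero => intro n; simp
      | succ m ih =>
        intro n
        rw [pow_succ, MulAut.mul_apply, ih]
        show w ^ m * (w * n * w⁻¹) * (w ^ m)⁻¹ = _
        rw [pow_succ]; group
    obtain ⟨k, hk⟩ := S.isPGroup' ⟨w, hwS⟩
    obtain ⟨v, hv, hvn⟩ := hkl' β k (MulEquiv.ext fun n => Subtype.ext (by
      rw [hpow, show w ^ 2 ^ k = 1 by simpa using congrArg (fun z : (S : Subgroup G) => (z : G)) hk]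
      simp)) (fun n hn => Subtype.ext (by
        show w * n * w⁻¹ = n
        rcases hn with hn | hn <;> rw [hn]
        · rw [hSab w hwS i hiS, mul_inv_cancel_right]
        · rw [hSab w hwS j hjS, mul_inv_cancel_right]))
    refine ⟨v, hv, ?_⟩
    have hvE : v ∈ E := by
      rcases hv with rfl | rfl | rfl | rfl
      exacts [one_mem _, SetLike.coe_mem _, SetLike.coe_mem _,
        mul_mem (SetLike.coe_mem _) (SetLike.coe_mem _)]
    have : v⁻¹ * w = 1 := hcentE _ (mul_mem (inv_mem hvE) hw) fun n hn => by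
      have h1 : w * n * w⁻¹ = v * n * v⁻¹ := hvn ⟨n, hn⟩
      calc v⁻¹ * w * n = v⁻¹ * (w * n * w⁻¹) * w := by group
        _ = n * (v⁻¹ * w) := by rw [h1]; group
    rw [← inv_mul_eq_one.1 this] at hsw
    exact hsw

namespace Config

variable {S : Sylow 2 G} {N : Subgroup G} {t i j y : G} (h : Config S N t i j y)
include h

theorem y_k : y * (i * j) * y⁻¹ = j := by
  rw [show y * (i * j) * y⁻¹ = (y * i * y⁻¹) * (y * j * y⁻¹) by group, h.y_i, h.y_j,
    h.ab i h.i_mem j h.j_mem, mul_assoc, h.sq i h.i_mem, mul_one]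

theorem y_norm : y ∈ Subgroup.normalizer ((S : Subgroup G) : Set G) := by
  haveI : Finite (S : Subgroup G) := inferInstance
  have hfwd : ∀ s ∈ (S : Subgroup G), y * s * y⁻¹ ∈ (S : Subgroup G) := by
    intro s hs
    obtain ⟨v, hv, hs'⟩ := h.cases s hs
    have hyv : y * v * y⁻¹ ∈ (S : Subgroup G) := by
      rcases hv with rfl | rfl | rfl | rfl
      · simp
      · rw [h.y_i]; exact mul_mem h.i_mem h.j_mem
      · rw [h.y_j]; exact h.i_mem
      · rw [h.y_k]; exact h.j_mem
    rcases hs' with rfl | rfl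
    · exact hyv
    · rw [show y * (t * v) * y⁻¹ = (y * t * y⁻¹) * (y * v * y⁻¹) by group, h.y_t.eq,
        mul_inv_cancel_right]
      exact mul_mem h.t_mem hyv
  have heq : (S : Subgroup G).map (MulAut.conj y).toMonoidHom = (S : Subgroup G) := by
    refine Subgroup.eq_of_le_of_card_ge (Subgroup.map_le_iff_le_comap.2 fun s hs => hfwd s hs) ?_
    rw [Subgroup.card_map_of_injective (MulAut.conj y).injective]
  exact Cfsg.Agent.Transfer.Fusion.map_conj_eq_self_iff.1 heq

theorem y_fixed {s : G} (hs : s ∈ (S : Subgroup G)) (hy : y * s * y⁻¹ = s) : s = 1 ∨ s = t := by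
  obtain ⟨v, hv, hs'⟩ := h.cases s hs
  have hyv : y * v * y⁻¹ = v := by
    rcases hs' with rfl | rfl
    · exact hy
    · rw [show y * (t * v) * y⁻¹ = (y * t * y⁻¹) * (y * v * y⁻¹) by group, h.y_t.eq,
        mul_inv_cancel_right] at hy
      exact mul_left_cancel hy
  have hv1 : v = 1 := by
    rcases hv with rfl | rfl | rfl | rfl
    · rfl
    · rw [h.y_i] at hyv; exact absurd (mul_eq_left.1 hyv) h.j_ne
    · rw [h.y_j] at hyv
      exact absurd (by rw [hyv, h.sq _ h.j_mem]) h.ij_ne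
    · rw [h.y_k] at hyv; exact absurd (right_eq_mul.1 hyv) h.i_ne
  subst hv1
  rcases hs' with rfl | rfl
  · exact Or.inl rfl
  · exact Or.inr (mul_one t)

/-- All involutions of `S` are fused to `t` in the normalizer of `S`. -/
theorem fused (hperf : commutator G = ⊤) {s : G} (hs : s ∈ (S : Subgroup G)) (hs1 : s ≠ 1) :
    ∃ n ∈ Subgroup.normalizer ((S : Subgroup G) : Set G), n * t * n⁻¹ = s := by
  classical
  haveI : Fact (Nat.Prime 2) := ⟨Nat.prime_two⟩
  set Nn := Subgroup.normalizer ((S : Subgroup G) : Set G)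
  set O : Set G := {z | ∃ n ∈ Nn, n * t * n⁻¹ = z} with hO
  have hOS : ∀ z ∈ O, z ∈ (S : Subgroup G) ∧ z ≠ 1 := by
    rintro z ⟨n, hn, rfl⟩
    exact ⟨(Subgroup.mem_normalizer_iff.1 hn t).1 h.t_mem, fun e => h.t_ne (by
      calc t = n⁻¹ * (n * t * n⁻¹) * n := by group
        _ = 1 := by rw [e]; group)⟩
  have hstep : ∀ z ∈ O, y * z * y⁻¹ ∈ O := by
    rintro z ⟨n, hn, rfl⟩
    exact ⟨y * n, mul_mem h.y_norm hn, by group⟩
  have hti : y * (t * i) * y⁻¹ = t * (i * j) := by
    rw [show y * (t * i) * y⁻¹ = (y * t * y⁻¹) * (y * i * y⁻¹) by group, h.y_t.eq,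
      mul_inv_cancel_right, h.y_i]
  have htk : y * (t * (i * j)) * y⁻¹ = t * j := by
    rw [show y * (t * (i * j)) * y⁻¹ = (y * t * y⁻¹) * (y * (i * j) * y⁻¹) by group, h.y_t.eq,
      mul_inv_cancel_right, h.y_k]
  have htj : y * (t * j) * y⁻¹ = t * i := by
    rw [show y * (t * j) * y⁻¹ = (y * t * y⁻¹) * (y * j * y⁻¹) by group, h.y_t.eq,
      mul_inv_cancel_right, h.y_j]
  have htO : t ∈ O := ⟨1, one_mem _, by simp⟩
  have ha : ∀ z ∈ ({i, j, i * j} : Set G), z ∈ O → i ∈ O ∧ j ∈ O ∧ i * j ∈ O := by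
    rintro z (rfl | rfl | rfl) hz
    · have h1 := hstep _ hz; rw [h.y_i] at h1
      have h2 := hstep _ h1; rw [h.y_k] at h2
      exact ⟨hz, h2, h1⟩
    · have h1 := hstep _ hz; rw [h.y_j] at h1
      have h2 := hstep _ h1; rw [h.y_i] at h2
      exact ⟨h1, hz, h2⟩
    · have h1 := hstep _ hz; rw [h.y_k] at h1
      have h2 := hstep _ h1; rw [h.y_j] at h2
      exact ⟨h2, h1, hz⟩
  have hb : ∀ z ∈ ({t * i, t * j, t * (i * j)} : Set G), z ∈ O →
      t * i ∈ O ∧ t * j ∈ O ∧ t * (i * j) ∈ O := by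
    rintro z (rfl | rfl | rfl) hz
    · have h1 := hstep _ hz; rw [hti] at h1
      have h2 := hstep _ h1; rw [htk] at h2
      exact ⟨hz, h2, h1⟩
    · have h1 := hstep _ hz; rw [htj] at h1
      have h2 := hstep _ h1; rw [hti] at h2
      exact ⟨h1, hz, h2⟩
    · have h1 := hstep _ hz; rw [htk] at h1
      have h2 := hstep _ h1; rw [htj] at h2
      exact ⟨h2, h1, hz⟩
  -- the orbit is odd
  have hodd : Odd O.ncard := by
    letI : MulAction Nn G := MulAction.compHom G (MulAut.conj.comp Nn.subtype)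
    have horb : MulAction.orbit Nn t = O := by
      ext z
      constructor
      · rintro ⟨n, rfl⟩; exact ⟨n, n.2, rfl⟩
      · rintro ⟨n, hn, rfl⟩; exact ⟨⟨n, hn⟩, rfl⟩
    rw [← horb, ← Nat.card_coe_set_eq,
      Nat.card_congr (MulAction.orbitEquivQuotientStabilizer Nn t)]
    refine Nat.odd_iff.2 (Nat.two_dvd_ne_zero.1 fun h2 => S.not_dvd_index (h2.trans ?_))
    refine (Subgroup.index_dvd_of_le (H := (S : Subgroup G).subgroupOf Nn) ?_).trans
      (Subgroup.relIndex_dvd_index_of_le Subgroup.le_normalizer)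
    intro n hn
    show (n : G) * t * (n : G)⁻¹ = t
    rw [h.ab (n : G) hn t h.t_mem, mul_inv_cancel_right]
  have hne : ∃ z ∈ O, z ≠ t := by
    by_contra hcon
    push Not at hcon
    exact h.t_ne (eq_one_of_fixed S h.ab hperf h.t_mem (by rw [pow_two]; exact h.sq t h.t_mem)
      fun g hg => hcon _ ⟨g, hg, rfl⟩)
  have hclass : ∀ z ∈ O, z = t ∨ z ∈ ({i, j, i * j} : Set G) ∨
      z ∈ ({t * i, t * j, t * (i * j)} : Set G) := by
    intro z hz
    obtain ⟨hzS, hz1⟩ := hOS z hz
    obtain ⟨v, hv, hz'⟩ := h.cases z hzS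
    rcases hv with rfl | rfl | rfl | rfl <;> rcases hz' with rfl | rfl
    · exact absurd rfl hz1
    · exact Or.inl (mul_one t)
    · exact Or.inr (Or.inl (Or.inl rfl))
    · exact Or.inr (Or.inr (Or.inl rfl))
    · exact Or.inr (Or.inl (Or.inr (Or.inl rfl)))
    · exact Or.inr (Or.inr (Or.inr (Or.inl rfl)))
    · exact Or.inr (Or.inl (Or.inr (Or.inr rfl)))
    · exact Or.inr (Or.inr (Or.inr (Or.inr rfl)))
  have hij : i ≠ j := fun e => h.ij_ne (by rw [e, h.sq j h.j_mem])
  have hik : i ≠ i * j := fun e => h.j_ne (left_eq_mul.1 e)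
  have hjk : j ≠ i * j := fun e => h.i_ne (right_eq_mul.1 e)
  have hv_ne : ∀ v ∈ ({i, j, i * j} : Set G), v ≠ t := fun v hv => h.indep v (Or.inr hv)
  have hall : (i ∈ O ∧ j ∈ O ∧ i * j ∈ O) ∧ (t * i ∈ O ∧ t * j ∈ O ∧ t * (i * j) ∈ O) := by
    by_cases hA : ∃ z ∈ ({i, j, i * j} : Set G), z ∈ O
    · obtain ⟨z, hz, hzO⟩ := hA
      refine ⟨ha z hz hzO, ?_⟩
      by_contra hB
      have heq : O = {t, i, j, i * j} := by
        ext w
        constructor
        · intro hw
          rcases hclass w hw with rfl | h' | h'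
          · exact Or.inl rfl
          · exact Or.inr h'
          · exact absurd (hb w h' hw) hB
        · rintro (rfl | rfl | rfl | rfl)
          exacts [htO, (ha z hz hzO).1, (ha z hz hzO).2.1, (ha z hz hzO).2.2]
      rw [heq, Set.ncard_insert_of_notMem (fun hm => hv_ne t hm rfl),
        Set.ncard_insert_of_notMem (by simp [hij, hik]), Set.ncard_pair hjk] at hodd
      exact absurd hodd (by decide)
    · push Not at hA
      obtain ⟨z, hzO, hzt⟩ := hne
      have hB : t * i ∈ O ∧ t * j ∈ O ∧ t * (i * j) ∈ O := by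
        rcases hclass z hzO with rfl | h' | h'
        · exact absurd rfl hzt
        · exact absurd hzO (hA z h')
        · exact hb z h' hzO
      have heq : O = {t, t * i, t * j, t * (i * j)} := by
        ext w
        constructor
        · intro hw
          rcases hclass w hw with rfl | h' | h'
          · exact Or.inl rfl
          · exact absurd hw (hA w h')
          · exact Or.inr h'
        · rintro (rfl | rfl | rfl | rfl)
          exacts [htO, hB.1, hB.2.1, hB.2.2]
      rw [heq, Set.ncard_insert_of_notMem (by simp [h.i_ne, h.j_ne, h.ij_ne]),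
        Set.ncard_insert_of_notMem (by simp [hij, h.j_ne]),
        Set.ncard_pair (by simp [h.i_ne])] at hodd
      exact absurd hodd (by decide)
  obtain ⟨v, hv, hs'⟩ := h.cases s hs
  rcases hv with rfl | rfl | rfl | rfl <;> rcases hs' with rfl | rfl
  · exact absurd rfl hs1
  · rw [mul_one]; exact htO
  exacts [hall.1.1, hall.2.1, hall.1.2.1, hall.2.2.1, hall.1.2.2, hall.2.2.2]

/-- No perfect central extension by a `2`-group. -/
theorem multiplier (hperf : commutator G = ⊤) {L : Type*} [Group L] [Finite L]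
    (Z : Subgroup L) [Z.Normal] (hL : commutator L = ⊤) (hZ : Z ≤ Subgroup.center L)
    (hZ2 : IsPGroup 2 Z) (e : L ⧸ Z ≃* G) : Z = ⊥ := by
  classical
  haveI : Fact (Nat.Prime 2) := ⟨Nat.prime_two⟩
  let π : L →* G := e.toMonoidHom.comp (QuotientGroup.mk' Z)
  have hπ : Function.Surjective π := fun g => by
    obtain ⟨l, hl⟩ := QuotientGroup.mk'_surjective Z (e.symm g)
    exact ⟨l, by show e (QuotientGroup.mk' Z l) = g; rw [hl, e.apply_symm_apply]⟩
  have hker : ∀ l, π l = 1 ↔ l ∈ Z := fun l => by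
    show e (QuotientGroup.mk' Z l) = 1 ↔ _
    rw [e.map_eq_one_iff, QuotientGroup.mk'_apply, QuotientGroup.eq_one_iff]
  have hzc : ∀ z ∈ Z, ∀ l : L, l * z = z * l := fun z hz l => Subgroup.mem_center_iff.1 (hZ hz) l
  let T : Subgroup L := (S : Subgroup G).comap π
  have hT : IsPGroup 2 T := S.isPGroup'.comap_of_ker_isPGroup π (by
    rwa [show π.ker = Z by ext l; rw [MonoidHom.mem_ker, hker]])
  have hTi : ¬ 2 ∣ T.index := by
    rw [Subgroup.index_comap_of_surjective _ hπ]; exact S.not_dvd_index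
  obtain ⟨ti, hti⟩ := hπ t
  obtain ⟨ii, hii⟩ := hπ i
  obtain ⟨jj, hjj⟩ := hπ j
  obtain ⟨yy, hyy⟩ := hπ y
  -- the commutator with the lift of `t`
  have hdiff : ∀ l m : L, π l = π m → ∃ z ∈ Z, l = m * z := fun l m he => ⟨m⁻¹ * l, by
    rw [← hker, map_mul, map_inv, he, inv_mul_cancel], by rw [mul_inv_cancel_left]⟩
  let c : L → L := fun b => ti * b * ti⁻¹ * b⁻¹
  have hcZ : ∀ b, π b ∈ (S : Subgroup G) → c b ∈ Z := fun b hb => by
    rw [← hker]
    simp only [c, map_mul, map_inv, hti]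
    rw [h.ab t h.t_mem _ hb]; group
  have hmul : ∀ a b, π a ∈ (S : Subgroup G) → π b ∈ (S : Subgroup G) → c (a * b) = c a * c b := by
    intro a b _ hb
    have hz := hzc _ (hcZ b hb)
    calc c (a * b) = ti * a * ti⁻¹ * (c b) * a⁻¹ := by simp only [c]; group
      _ = ti * a * ti⁻¹ * (a⁻¹ * c b) := by rw [mul_assoc _ (c b) a⁻¹, hz a⁻¹]
      _ = c a * c b := by simp only [c]; group
  have hcoset : ∀ b z, z ∈ Z → c (b * z) = c b := fun b z hz => by
    simp only [c]
    calc ti * (b * z) * ti⁻¹ * (b * z)⁻¹ = ti * b * (z * ti⁻¹) * z⁻¹ * b⁻¹ := by group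
      _ = ti * b * (ti⁻¹ * z) * z⁻¹ * b⁻¹ := by rw [hzc z hz ti⁻¹]
      _ = _ := by group
  have hinvar : ∀ b, π b ∈ (S : Subgroup G) → c (yy * b * yy⁻¹) = c b := by
    intro b hb
    obtain ⟨z, hz, he⟩ := hdiff (yy⁻¹ * ti * yy) ti (by
      rw [map_mul, map_mul, map_inv, hti, hyy, mul_assoc, ← h.y_t.eq, inv_mul_cancel_left])
    calc c (yy * b * yy⁻¹) =
        yy * ((yy⁻¹ * ti * yy) * b * (yy⁻¹ * ti * yy)⁻¹ * b⁻¹) * yy⁻¹ := by simp only [c]; group
      _ = yy * (ti * (z * b) * (ti * z)⁻¹ * b⁻¹) * yy⁻¹ := by rw [he]; group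
      _ = yy * (ti * (b * z) * (ti * z)⁻¹ * b⁻¹) * yy⁻¹ := by rw [hzc z hz b]
      _ = yy * c b * yy⁻¹ := by simp only [c]; group
      _ = c b := by rw [hzc _ (hcZ b hb) yy, mul_inv_cancel_right]
  have hci : c ii * c jj = c ii := by
    obtain ⟨z, hz, he⟩ := hdiff (yy * ii * yy⁻¹) (ii * jj) (by
      rw [map_mul, map_mul, map_inv, map_mul, hyy, hii, hjj, h.y_i])
    rw [← hmul ii jj (hii ▸ h.i_mem) (hjj ▸ h.j_mem), ← hcoset (ii * jj) z hz, ← he,
      hinvar ii (hii ▸ h.i_mem)]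
  have hcj : c jj = c ii := by
    obtain ⟨z, hz, he⟩ := hdiff (yy * jj * yy⁻¹) ii (by
      rw [map_mul, map_mul, map_inv, hyy, hjj, hii, h.y_j])
    rw [← hinvar jj (hjj ▸ h.j_mem), he, hcoset ii z hz]
  have hj1 : c jj = 1 := mul_eq_left.1 hci
  have hcomm : ∀ {b}, c b = 1 → ti * b = b * ti := fun {b} hb =>
    mul_inv_eq_iff_eq_mul.1 (mul_inv_eq_one.1 hb)
  have hcent : ∀ b ∈ T, ti * b = b * ti := by
    intro b hb
    obtain ⟨v, hv, hb'⟩ := h.cases (π b) hb
    obtain ⟨vv, hvv, hcv⟩ : ∃ vv, π vv = v ∧ ti * vv = vv * ti := by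
      rcases hv with rfl | rfl | rfl | rfl
      · exact ⟨1, map_one π, by rw [mul_one, one_mul]⟩
      · exact ⟨ii, hii, hcomm (hcj.symm.trans hj1)⟩
      · exact ⟨jj, hjj, hcomm hj1⟩
      · refine ⟨ii * jj, by rw [map_mul, hii, hjj], ?_⟩
        rw [← mul_assoc, hcomm (hcj.symm.trans hj1), mul_assoc, hcomm hj1, mul_assoc]
    rcases hb' with hb' | hb'
    · obtain ⟨z, hz, rfl⟩ := hdiff b vv (by rw [hvv, hb'])
      rw [← mul_assoc, hcv, mul_assoc, hzc z hz ti, mul_assoc]
    · obtain ⟨z, hz, rfl⟩ := hdiff b (ti * vv) (by rw [map_mul, hti, hvv, hb'])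
      calc ti * (ti * vv * z) = ti * (ti * vv) * z := by simp only [mul_assoc]
        _ = ti * (vv * ti) * z := by rw [hcv]
        _ = ti * vv * (ti * z) := by group
        _ = ti * vv * (z * ti) := by rw [hzc z hz ti]
        _ = _ := by group
  have hTab : ∀ a ∈ T, ∀ b ∈ T, a * b = b * a := by
    intro a ha b hb
    by_cases ha1 : π a = 1
    · exact (hzc a ((hker a).1 ha1) b).symm
    obtain ⟨n, hn, hnt⟩ := h.fused hperf ha ha1
    obtain ⟨nn, hnn⟩ := hπ n
    obtain ⟨z, hz, rfl⟩ := hdiff a (nn * ti * nn⁻¹) (by rw [map_mul, map_mul, map_inv, hnn, hti, hnt])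
    have hb' : nn⁻¹ * b * nn ∈ T := by
      show π (nn⁻¹ * b * nn) ∈ (S : Subgroup G)
      rw [map_mul, map_mul, map_inv, hnn]
      have := (Subgroup.mem_normalizer_iff.1 (inv_mem hn) (π b)).1 hb
      rwa [inv_inv] at this
    have h1 := hcent _ hb'
    calc nn * ti * nn⁻¹ * z * b = nn * (ti * (nn⁻¹ * b * nn)) * nn⁻¹ * z := by
          rw [mul_assoc _ z b, ← hzc z hz b]; group
      _ = b * (nn * ti * nn⁻¹ * z) := by rw [h1]; group
  obtain ⟨R, hR⟩ := hT.exists_le_sylow
  have hRT : (R : Subgroup L) = T := by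
    refine (Subgroup.eq_of_le_of_card_ge hR ?_).symm
    have h1 := (R : Subgroup L).card_mul_index
    obtain ⟨k, hk⟩ := R.isPGroup'.exists_card_eq
    have h2 := T.card_mul_index
    have hd : Nat.card (R : Subgroup L) ∣ Nat.card T * T.index := by
      rw [h2, ← h1]; exact dvd_mul_right _ _
    refine Nat.le_of_dvd Nat.card_pos (Nat.Coprime.dvd_of_dvd_mul_right ?_ hd)
    rw [hk]
    exact (Nat.prime_two.coprime_iff_not_dvd.2 hTi).pow_left k
  refine (Subgroup.eq_bot_iff_forall Z).2 fun z hz => ?_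
  by_contra hz1
  obtain ⟨k, hk⟩ := hZ2 ⟨z, hz⟩
  have hd : orderOf z ∣ 2 ^ k := orderOf_dvd_of_pow_eq_one (by
    simpa using congrArg (fun w : Z => (w : L)) hk)
  obtain ⟨m, -, hm⟩ := (Nat.dvd_prime_pow Nat.prime_two).1 hd
  obtain ⟨m, rfl⟩ : ∃ m', m = m' + 1 := ⟨m - 1, by
    rcases m with _ | m
    · exact absurd (orderOf_eq_one_iff.1 (by rw [hm, pow_zero])) hz1
    · rfl⟩
  have hzm : z ^ (2 ^ m) = 1 := by
    refine eq_one_of_fixed R (hRT ▸ hTab) hL ?_ ?_ fun g _ => ?_
    · rw [hRT]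
      show π (z ^ 2 ^ m) ∈ (S : Subgroup G)
      rw [(hker _).2 (pow_mem hz _)]
      exact one_mem _
    · rw [← pow_mul, ← pow_succ, ← hm, pow_orderOf_eq_one]
    · rw [hzc _ (pow_mem hz _) g, mul_inv_cancel_right]
  have := Nat.le_of_dvd (by positivity) (orderOf_dvd_of_pow_eq_one hzm)
  rw [hm, pow_succ] at this
  have : 0 < 2 ^ m := by positivity
  omega

/-- A 2-automorphism fixing `S` pointwise is inner. -/
theorem inner [IsSimpleGroup G] (hperf : commutator G = ⊤)
    (hmax : IsCoatom (Subgroup.centralizer ({t} : Set G))) (hNperf : ¬ IsMulCommutative N)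
    (hNsimple : IsSimpleGroup N) (φ : MulAut G) {k : ℕ} (hk : φ ^ (2 ^ k) = 1)
    (hfix : ∀ s ∈ (S : Subgroup G), φ s = s) : ∃ g : G, φ = MulAut.conj g := by
  classical
  haveI : Fact (Nat.Prime 2) := ⟨Nat.prime_two⟩
  set C := Subgroup.centralizer ({t} : Set G) with hC
  have hφC : ∀ c ∈ C, φ c ∈ C := fun c hc => by
    rw [hC, Subgroup.mem_centralizer_singleton_iff] at hc ⊢
    have := congrArg φ hc
    rwa [map_mul, map_mul, hfix t h.t_mem] at this
  -- `φ` preserves `N`
  have hφN : N.map φ.toMonoidHom = N := by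
    set N₂ := N.map φ.toMonoidHom with hN₂
    have hN₂C : N₂ ≤ C := by rintro _ ⟨n, hn, rfl⟩; exact hφC n (h.N_le hn)
    have hN₂n : ∀ c ∈ C, ∀ n ∈ N₂, c * n * c⁻¹ ∈ N₂ := by
      rintro c hc _ ⟨n, hn, rfl⟩
      obtain ⟨c', hc'⟩ := φ.surjective c
      have hc'C : c' ∈ C := by
        rw [hC, Subgroup.mem_centralizer_singleton_iff] at hc ⊢
        apply φ.injective
        rw [map_mul, map_mul, hc', hfix t h.t_mem]
        exact hc
      refine ⟨c' * n * c'⁻¹, h.N_norm c' hc'C n hn, ?_⟩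
      rw [← hc']
      simp
    haveI : ((N₂ ⊓ N).subgroupOf N).Normal := ⟨fun n hn g =>
      ⟨hN₂n _ (h.N_le g.2) _ hn.1, h.N_norm _ (h.N_le g.2) _ hn.2⟩⟩
    rcases hNsimple.eq_bot_or_eq_top_of_normal ((N₂ ⊓ N).subgroupOf N) inferInstance with hb | ht
    · exfalso
      have hbot : ∀ z, z ∈ N₂ → z ∈ N → z = 1 := fun z h1 h2 => by
        have : (⟨z, h2⟩ : N) ∈ (N₂ ⊓ N).subgroupOf N := ⟨h1, h2⟩
        rw [hb, Subgroup.mem_bot] at this
        exact congrArg Subtype.val this
      have hN₂c : ∀ a ∈ N₂, a = 1 ∨ a = t := fun a ha => h.N_cent a (hN₂C ha) fun n hn => by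
        have h1 : a * n * a⁻¹ * n⁻¹ = 1 := hbot _
          (by
            rw [show a * n * a⁻¹ * n⁻¹ = a * (n * a⁻¹ * n⁻¹) by group]
            exact mul_mem ha (hN₂n n (h.N_le hn) _ (inv_mem ha)))
          (mul_mem (h.N_norm a (hN₂C ha) n hn) (inv_mem hn))
        exact mul_inv_eq_iff_eq_mul.1 (mul_inv_eq_one.1 h1)
      refine hNperf ⟨⟨fun a b => Subtype.ext (φ.injective ?_)⟩⟩
      simp only [Subgroup.coe_mul, map_mul]
      rcases hN₂c (φ a) ⟨a, a.2, rfl⟩ with e | e <;> rcases hN₂c (φ b) ⟨b, b.2, rfl⟩ with e' | e' <;>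
        simp [e, e']
    · refine (Subgroup.eq_of_le_of_card_ge (fun n hn => ?_) ?_).symm
      · exact ((ht ▸ Subgroup.mem_top (⟨n, hn⟩ : N) : (⟨n, hn⟩ : N) ∈ (N₂ ⊓ N).subgroupOf N)).1
      · rw [hN₂, Subgroup.card_map_of_injective φ.injective]
  have hφN' : ∀ n ∈ N, φ n ∈ N := fun n hn => hφN ▸ Subgroup.mem_map_of_mem φ.toMonoidHom hn
  let β : MulAut N :=
    { toFun := fun n => ⟨φ n, hφN' n n.2⟩
      invFun := fun n => ⟨φ.symm n, by
        have hn : (n : G) ∈ N.map φ.toMonoidHom := by rw [hφN]; exact n.2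
        obtain ⟨m, hm, hm'⟩ := hn
        have hm'' : φ m = n := hm'
        rw [← hm'', φ.symm_apply_apply]
        exact hm⟩
      left_inv := fun n => Subtype.ext (φ.symm_apply_apply _)
      right_inv := fun n => Subtype.ext (φ.apply_symm_apply _)
      map_mul' := fun a b => Subtype.ext (map_mul φ _ _) }
  have hβpow : ∀ (m : ℕ) (n : N), ((β ^ m) n : G) = (φ ^ m) n := by
    intro m
    induction m with
    | zero => intro n; rfl
    | succ m ih =>
      intro n
      rw [pow_succ, pow_succ, MulAut.mul_apply, MulAut.mul_apply, ih]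
      rfl
  obtain ⟨v, hv, hβ⟩ := h.klein β k (MulEquiv.ext fun n => Subtype.ext (by rw [hβpow, hk]; rfl))
    (fun n hn => Subtype.ext (by
      show φ n = n
      rcases hn with e | e <;> rw [e]
      exacts [hfix i h.i_mem, hfix j h.j_mem]))
  have hvS : v ∈ (S : Subgroup G) := by
    rcases hv with rfl | rfl | rfl | rfl
    exacts [one_mem _, h.i_mem, h.j_mem, mul_mem h.i_mem h.j_mem]
  set ψ : MulAut G := MulAut.conj v⁻¹ * φ with hψ
  have hψapp : ∀ g, ψ g = v⁻¹ * φ g * v := fun g => by simp [hψ]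
  have hψS : ∀ s ∈ (S : Subgroup G), ψ s = s := fun s hs => by
    rw [hψapp, hfix s hs, mul_assoc, h.ab s hs v hvS, inv_mul_cancel_left]
  have hψN : ∀ n ∈ N, ψ n = n := fun n hn => by
    rw [hψapp, show φ n = v * n * v⁻¹ from hβ ⟨n, hn⟩]; group
  have hψk : ψ ^ (2 ^ (k + 1)) = 1 := by
    have hc : Commute (MulAut.conj v⁻¹) φ := MulEquiv.ext fun g => by
      simp [hfix v hvS]
    rw [hψ, hc.mul_pow, pow_succ, pow_mul φ, hk, one_pow, mul_one, ← map_pow, mul_comm, pow_mul,
      pow_two, ← mul_inv_rev, h.sq v hvS, inv_one, one_pow, map_one]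
  have hψC : ∀ c ∈ C, ψ c = c := by
    intro c hc
    have hψcC : ψ c ∈ C := by
      rw [hψapp]
      have hvC : v ∈ C := Subgroup.mem_centralizer_singleton_iff.2 (h.ab v hvS t h.t_mem)
      exact mul_mem (mul_mem (inv_mem hvC) (hφC c hc)) hvC
    have hχ : ∀ d ∈ C, d⁻¹ * ψ d = 1 ∨ d⁻¹ * ψ d = t := by
      intro d hd
      have hψd : ψ d ∈ C := by
        rw [hψapp]
        have hvC : v ∈ C := Subgroup.mem_centralizer_singleton_iff.2 (h.ab v hvS t h.t_mem)
        exact mul_mem (mul_mem (inv_mem hvC) (hφC d hd)) hvC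
      refine h.N_cent _ (mul_mem (inv_mem hd) hψd) fun n hn => ?_
      have h1 := hψN _ (h.N_norm d hd n hn)
      rw [map_mul, map_mul, map_inv, hψN n hn] at h1
      calc d⁻¹ * ψ d * n = d⁻¹ * (ψ d * n * (ψ d)⁻¹) * ψ d := by group
        _ = n * (d⁻¹ * ψ d) := by rw [h1]; group
    let χ : C →* G :=
      { toFun := fun d => (d : G)⁻¹ * ψ d
        map_one' := by simp
        map_mul' := fun a b => by
          simp only [Subgroup.coe_mul, map_mul, mul_inv_rev]
          have hcomm : (b : G)⁻¹ * ((a : G)⁻¹ * ψ a) = ((a : G)⁻¹ * ψ a) * (b : G)⁻¹ := by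
            rcases hχ a a.2 with e | e <;> rw [e]
            · rw [mul_one, one_mul]
            · exact ((Subgroup.mem_centralizer_singleton_iff.1 (inv_mem b.2)))
          calc (b : G)⁻¹ * (a : G)⁻¹ * (ψ a * ψ b) = (b : G)⁻¹ * ((a : G)⁻¹ * ψ a) * ψ b := by group
            _ = (a : G)⁻¹ * ψ a * ((b : G)⁻¹ * ψ b) := by rw [hcomm]; group }
    have hSC : (S : Subgroup G) ≤ C := fun s hs =>
      Subgroup.mem_centralizer_singleton_iff.2 (h.ab s hs t h.t_mem)
    have hSker : (S : Subgroup G).subgroupOf C ≤ χ.ker := fun d hd => by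
      rw [MonoidHom.mem_ker]
      show (d : G)⁻¹ * ψ d = 1
      rw [hψS (d : G) hd, inv_mul_cancel]
    have hr : Nat.card χ.range ∣ 2 := by
      have hle : χ.range ≤ Subgroup.zpowers t := by
        rintro _ ⟨d, rfl⟩
        rcases hχ d d.2 with e | e
        · show (d : G)⁻¹ * ψ d ∈ _
          rw [e]; exact one_mem _
        · show (d : G)⁻¹ * ψ d ∈ _
          rw [e]; exact Subgroup.mem_zpowers t
      exact (Subgroup.card_dvd_of_le hle).trans (by rw [Nat.card_zpowers, h.t_ord])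
    have hodd : ¬ 2 ∣ Nat.card χ.range := fun h2 => S.not_dvd_index (h2.trans (by
      rw [← Subgroup.index_ker]
      exact (Subgroup.index_dvd_of_le hSker).trans (Subgroup.relIndex_dvd_index_of_le hSC)))
    have hχ1 : χ.range = ⊥ := Subgroup.eq_bot_of_card_eq _ (by
      rcases (Nat.dvd_prime Nat.prime_two).1 hr with e | e
      · exact e
      · exact absurd (e ▸ dvd_rfl) hodd)
    have : χ ⟨c, hc⟩ = 1 := Subgroup.mem_bot.1 (hχ1 ▸ ⟨⟨c, hc⟩, rfl⟩)
    exact (inv_mul_eq_one.1 this).symm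
  set Nn := Subgroup.normalizer ((S : Subgroup G) : Set G) with hNn
  have hcent : ∀ g, (∀ s ∈ (S : Subgroup G), s * g = g * s) → g ∈ C := fun g hg =>
    Subgroup.mem_centralizer_singleton_iff.2 (hg t h.t_mem).symm
  have hδ : ∀ n ∈ Nn, ψ n * n⁻¹ ∈ (S : Subgroup G) := by
    intro n hn
    have hcS : ∀ s ∈ (S : Subgroup G), s * (n⁻¹ * ψ n) = n⁻¹ * ψ n * s := by
      intro s hs
      have h1 := hψS _ ((Subgroup.mem_normalizer_iff.1 hn s).1 hs)
      rw [map_mul, map_mul, map_inv, hψS s hs] at h1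
      calc s * (n⁻¹ * ψ n) = n⁻¹ * (n * s * n⁻¹) * ψ n := by group
        _ = n⁻¹ * ψ n * s := by rw [← h1]; group
    set c := n⁻¹ * ψ n with hcdef
    have hψc : ψ c = c := hψC c (hcent c hcS)
    have hψn : ∀ m : ℕ, (ψ ^ m) n = n * c ^ m := by
      intro m
      induction m with
      | zero => simp
      | succ m ih =>
        rw [pow_succ', MulAut.mul_apply, ih, map_mul, map_pow, hψc,
          show ψ n = n * c by rw [hcdef, mul_inv_cancel_left], pow_succ', mul_assoc]
    have hc2 : c ^ (2 ^ (k + 1)) = 1 := by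
      have := hψn (2 ^ (k + 1))
      rw [hψk, MulAut.one_apply] at this
      exact (left_eq_mul.1 this)
    have hcS' : c ∈ (S : Subgroup G) := by
      have hp : IsPGroup 2 (Subgroup.zpowers c) := fun z => by
        obtain ⟨l, hl⟩ := z.2
        refine ⟨k + 1, Subtype.ext ?_⟩
        rw [SubgroupClass.coe_pow, Subgroup.coe_one, ← hl]
        show (c ^ l) ^ 2 ^ (k + 1) = 1
        rw [← zpow_natCast, ← zpow_mul, mul_comm, zpow_mul, zpow_natCast, hc2, one_zpow]
      have hsup : IsPGroup 2 ((S : Subgroup G) ⊔ Subgroup.zpowers c : Subgroup G) :=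
        S.isPGroup'.to_sup_of_normal_left' hp (Subgroup.zpowers_le.2
          (Subgroup.centralizer_le_normalizer _ (Subgroup.mem_centralizer_iff.2 hcS)))
      exact S.3 hsup le_sup_left ▸ Subgroup.mem_sup_right (Subgroup.mem_zpowers c)
    rw [show ψ n * n⁻¹ = n * c * n⁻¹ by rw [hcdef]; group]
    exact (Subgroup.mem_normalizer_iff.1 hn c).1 hcS'
  -- averaging the cocycle
  letI : CommGroup (S : Subgroup G) :=
    { (inferInstance : Group (S : Subgroup G)) with
      mul_comm := fun a b => Subtype.ext (h.ab _ a.2 _ b.2) }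
  set f := Subgroup.normalizerMonoidHom (S : Subgroup G) with hf
  haveI := Fintype.ofFinite f.range
  choose rep hrep using fun a : f.range => a.2
  let D : f.range → (S : Subgroup G) := fun a => ⟨ψ (rep a : G) * (rep a : G)⁻¹, hδ _ (rep a).2⟩
  have hD : ∀ (a : f.range) (n : Nn), f n = (a : MulAut (S : Subgroup G)) →
      (D a : G) = ψ (n : G) * (n : G)⁻¹ := by
    intro a n hn
    set g := (rep a : G)⁻¹ * n
    have hg : g ∈ C := hcent g fun s hs => by
      have h1 : (rep a : G) * s * (rep a : G)⁻¹ = n * s * (n : G)⁻¹ :=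
        congrArg (fun γ : MulAut (S : Subgroup G) => (γ ⟨s, hs⟩ : G)) ((hrep a).trans hn.symm)
      calc s * g = (rep a : G)⁻¹ * ((rep a : G) * s * (rep a : G)⁻¹) * n := by simp only [g]; group
        _ = g * s := by rw [h1]; simp only [g]; group
    have h2 := hψC g hg
    simp only [g, map_mul, map_inv] at h2
    show ψ (rep a : G) * (rep a : G)⁻¹ = _
    calc ψ (rep a : G) * (rep a : G)⁻¹
        = ψ (rep a : G) * ((rep a : G)⁻¹ * n) * (n : G)⁻¹ := by group
      _ = ψ (n : G) * (n : G)⁻¹ := by rw [← h2]; group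
  let w : (S : Subgroup G) := ∏ a, D a
  have hcoc : ∀ a b : f.range, D (a * b) = D a * (a : MulAut (S : Subgroup G)) (D b) := by
    intro a b
    apply Subtype.ext
    rw [hD (a * b) (rep a * rep b) (by rw [map_mul, hrep, hrep]; rfl), Subgroup.coe_mul]
    rw [← show f (rep a) = (a : MulAut (S : Subgroup G)) from hrep a]
    show _ = ψ (rep a : G) * (rep a : G)⁻¹ * ((rep a : G) * (ψ (rep b : G) * (rep b : G)⁻¹) * (rep a : G)⁻¹)
    simp only [Subgroup.coe_mul, map_mul]
    group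
  have hoddA : Odd (Fintype.card f.range) := by
    rw [← Nat.card_eq_fintype_card, ← Subgroup.index_ker, Nat.odd_iff, ← Nat.two_dvd_ne_zero,
      hf, Subgroup.normalizerMonoidHom_ker]
    intro h2
    refine S.not_dvd_index (h2.trans ((Subgroup.index_dvd_of_le ?_).trans
      (Subgroup.relIndex_dvd_index_of_le Subgroup.le_normalizer)))
    exact fun s hs => Subgroup.mem_centralizer_iff.2 fun b hb => h.ab b hb _ hs
  have hDa : ∀ a : f.range, D a = w * (a : MulAut (S : Subgroup G)) w := by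
    intro a
    have h1 : w = D a ^ Fintype.card f.range * (a : MulAut (S : Subgroup G)) w := by
      calc w = ∏ b, D (a * b) := (Fintype.prod_equiv (Equiv.mulLeft a) _ _ fun b => rfl).symm
        _ = ∏ b, D a * (a : MulAut (S : Subgroup G)) (D b) := Finset.prod_congr rfl fun b _ => hcoc a b
        _ = _ := by rw [Finset.prod_mul_distrib, Finset.prod_const, Finset.card_univ, ← map_prod]
    have hsq : ∀ z : (S : Subgroup G), z * z = 1 := fun z => Subtype.ext (h.sq z z.2)
    obtain ⟨m, hm⟩ := hoddA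
    rw [hm, pow_succ, pow_mul, pow_two, hsq, one_pow, one_mul] at h1
    nth_rewrite 1 [h1]
    rw [mul_assoc, hsq, mul_one]
  have hwinv : ((w : G))⁻¹ = w := inv_eq_of_mul_eq_one_right (h.sq w w.2)
  have hψn : ∀ n ∈ Nn, ψ n = (w : G) * n * (w : G) := by
    intro n hn
    have h1 := congrArg (fun z : (S : Subgroup G) => (z : G)) (hDa ⟨f ⟨n, hn⟩, ⟨n, hn⟩, rfl⟩)
    simp only [hD ⟨f ⟨n, hn⟩, ⟨n, hn⟩, rfl⟩ ⟨n, hn⟩ rfl, Subgroup.coe_mul] at h1
    rw [mul_inv_eq_iff_eq_mul] at h1
    rw [h1]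
    show (w : G) * (n * (w : G) * n⁻¹) * n = _
    group
  have hwt : (w : G) = 1 ∨ (w : G) = t := by
    refine h.y_fixed w.2 ?_
    have h1 := hψn y h.y_norm
    rw [hψC y (Subgroup.mem_centralizer_singleton_iff.2 h.y_t.eq)] at h1
    calc y * (w : G) * y⁻¹ = ((w : G) * (w : G)) * (y * (w : G) * y⁻¹) := by rw [h.sq w w.2, one_mul]
      _ = (w : G) * ((w : G) * y * (w : G)) * y⁻¹ := by group
      _ = (w : G) := by rw [← h1, mul_inv_cancel_right]
  refine ⟨v * w, ?_⟩
  suffices hfixall : ∀ g, ψ g = (w : G) * g * (w : G)⁻¹ from MulEquiv.ext fun g => by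
    have h1 := hfixall g
    rw [hψapp] at h1
    rw [MulAut.conj_apply]
    calc φ g = v * (v⁻¹ * φ g * v) * v⁻¹ := by group
      _ = _ := by rw [h1]; group
  let Fx : Subgroup G := ψ.toMonoidHom.eqLocus (MulAut.conj (w : G)).toMonoidHom
  have hCF : C ≤ Fx := fun c hc => by
    show ψ c = (w : G) * c * (w : G)⁻¹
    rw [hψC c hc]
    rcases hwt with e | e <;> rw [e]
    · simp
    · rw [← (Subgroup.mem_centralizer_singleton_iff.1 hc), mul_inv_cancel_right]
  obtain ⟨n, hn, hnt⟩ := h.fused hperf h.i_mem h.i_ne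
  have hnC : n ∉ C := fun hnC => by
    rw [Subgroup.mem_centralizer_singleton_iff.1 hnC, mul_inv_cancel_right] at hnt
    exact h.indep i (Or.inr (Or.inl rfl)) hnt.symm
  have htop : Fx = ⊤ := hmax.2 Fx (lt_of_le_of_ne hCF fun e => hnC (e ▸ (by
    show ψ n = (w : G) * n * (w : G)⁻¹
    rw [hψn n hn, hwinv])))
  exact fun g => (htop ▸ Subgroup.mem_top g : g ∈ Fx)

end Config

end Cfsg.Agent.JankoReeType
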